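import Groth.Agent.Desc44.ProjBundle.Iso
import Groth.Agent.ProjMorph.Sections
import Groth.Agent.AmpleLib.CompLemma

/-!
# A projective bundle over an affine frame open is a projective space
-/

set_option autoImplicit false
set_option backward.isDefEq.respectTransparency false
set_option backward.isDefEq.respectTransparency.types false
set_option linter.style.haveILetI false
set_option maxHeartbeats 800000

universe u v

open CategoryTheory Limits AlgebraicGeometry TopologicalSpace Opposite HomogeneousLocalization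

noncomputable section

namespace Groth.Agent.PBundle71

open Groth.Agent.QCoh Groth.Agent.Props.GenLocus Groth.Agent.AmpleLib Groth.Agent.Props.GenPull
open Groth.Agent.ProjMorph Groth.Agent.Desc44.ProjBundle Groth.Agent.LFFrame Groth.Agent.PullStalk.Sky

theorem ι_str {R A : Type u} [CommRing R] [CommRing A] [Algebra R A] (𝒜 : ℕ → Submodule R A)
    [GradedAlgebra 𝒜] {a : A} (ha : a ∈ 𝒜 1) :
    (Proj.basicOpen 𝒜 a).ι ≫ str 𝒜 = (Proj.basicOpen 𝒜 a).toSpecΓ ≫
      Spec.map (CommRingCat.ofHom ((fromZeroRingHom 𝒜 (Submonoid.powers a)).comp (algebraMap R (𝒜 0))) ≫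
        Proj.awayToSection 𝒜 a) := by
  have h : (Proj.basicOpen 𝒜 a).ι =
      Proj.basicOpenToSpec 𝒜 a ≫ Proj.awayι 𝒜 a ha Nat.one_pos := by
    rw [← Proj.basicOpenIsoSpec_hom 𝒜 a ha Nat.one_pos, ← Proj.basicOpenIsoSpec_inv_ι,
      Iso.hom_inv_id_assoc]
  rw [h, Category.assoc, Proj.awayι_toSpecZero_assoc, Proj.basicOpenToSpec, Category.assoc,
    ← Spec.map_comp, ← Spec.map_comp]
  rfl

theorem app_of_ι_comp {Z : Scheme.{u}} {R : CommRingCat.{u}} (f : Z ⟶ Spec R) (V : Z.Opens)
    (φ : R ⟶ Γ(Z, V)) (h : V.ι ≫ f = V.toSpecΓ ≫ Spec.map φ) :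
    (Scheme.ΓSpecIso R).inv ≫ f.appLE ⊤ V le_top = φ := by
  have h' := congrArg Scheme.Hom.appTop h
  simp only [Scheme.Hom.comp_appTop, Scheme.Opens.toSpecΓ_appTop,
    Scheme.ΓSpecIso_naturality_assoc] at h'
  have h4 : f.appLE ⊤ V le_top = f.appTop ≫ V.ι.appTop ≫ V.topIso.hom := by
    rw [Scheme.Opens.topIso_hom, Scheme.Opens.ι_appTop, Scheme.Hom.appLE]
    congr 1
    rw [← Functor.map_comp]
    rfl
  rw [h4, reassoc_of% h', Iso.inv_hom_id_assoc, Iso.inv_hom_id, Category.comp_id]

theorem app_str {R A : Type u} [CommRing R] [CommRing A] [Algebra R A] (𝒜 : ℕ → Submodule R A)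
    [GradedAlgebra 𝒜] {a : A} (ha : a ∈ 𝒜 1) (r : R) :
    (str 𝒜).appLE ⊤ (Proj.basicOpen 𝒜 a) le_top ((Scheme.ΓSpecIso (CommRingCat.of R)).inv r) =
      Proj.awayToSection 𝒜 a (fromZeroRingHom 𝒜 (Submonoid.powers a) (algebraMap R (𝒜 0) r)) :=
  congrArg (fun φ : CommRingCat.of R ⟶ Γ(Proj 𝒜, Proj.basicOpen 𝒜 a) => φ r)
    (app_of_ι_comp (str 𝒜) _ _ (ι_str 𝒜 ha))

theorem locus_eq_genLocus {X : Scheme.{u}} {M : X.Modules} {U : X.Opens} (τ : Γ(M, U)) :
    locus τ = genLocus M τ := by
  unfold locus genLocus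
  congr 1
  ext W
  exact exists_congr fun h => isGen_iff_isFrame _

section

variable {X P : Scheme.{u}} (π : P ⟶ X) {E : X.Modules} {O1 : P.Modules}
  (q : (Scheme.Modules.pullback π).obj E ⟶ O1) (hP : KRR.IsProjBundle π E O1 q)
  {U : X.Opens} (hU : IsAffineOpen U) {m : ℕ} {e : Fin (m + 1) → Γ(E, U)} (he : IsFrame E U e)

include hP hU he

theorem exists_chart :
    ∃ (c : CohB1.ProjSpace m Γ(X, U) ⟶ P) (_ : IsOpenImmersion c),
      c.opensRange = π ⁻¹ᵁ U ∧
        Nonempty ((Scheme.Modules.pullback c).obj O1 ≅ Twist.twistProjSpace m Γ(X, U) 1) := by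
  let W : P.Opens := π ⁻¹ᵁ U
  let j : (W : Scheme.{u}) ⟶ P := W.ι
  let R : Type u := Γ(X, U)
  let L := (Scheme.Modules.pullback j).obj O1
  have hO : PicF.IsInvertible O1 := isInvertible_of_rank_one hP.invertible
  have hL : PicF.IsInvertible L := PicCl.isInvertible_pullback j hO
  have htop : (⊤ : (W : Scheme.{u}).Opens) ≤ j ⁻¹ᵁ W := fun x _ => x.2
  let s : Fin (m + 1) → ProjUP.Γm L := fun i => res L htop (pb j (tau π q e i))
  have hloc : ∀ i, locus (O := ⊤) (s i) = j ⁻¹ᵁ D π q e i := by
    intro i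
    simp only [s]
    rw [AmpleLib.locus_res, AmpleLib.locus_pb j hO, inf_top_eq, locus_eq_genLocus]
    rfl
  have hs : ProjUP.GeneratedBy L s := by
    intro x
    obtain ⟨k, hk⟩ := exists_mem_D π q e hP he (x := j x) x.2
    have hx : x ∈ locus (O := ⊤) (s k) := by rw [hloc]; exact hk
    have hb := ((isGen_iff_isFrame _).mp (isGen_locus (s k))).stalkComb_bijective x hx
    refine Submodule.eq_top_iff'.mpr fun v => ?_
    obtain ⟨a, rfl⟩ := hb.2 v
    simp only [stalkComb, Fintype.linearCombination_apply, Fin.sum_univ_one]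
    refine Submodule.smul_mem _ _ (Submodule.subset_span ⟨k, ?_⟩)
    exact (L.presheaf.germ_res_apply _ x hx (s k)).symm
  let q₀ : R →+* Γ((W : Scheme.{u}), ⊤) := ((π.app U) ≫ W.topIso.inv).hom
  let t : Fin (m + 1) → MvPolynomial (Fin (m + 1)) R := MvPolynomial.X
  have ht : ∀ i, t i ∈ CohB1.polyGrading m R 1 := fun i => MvPolynomial.isHomogeneous_X R i
  obtain ⟨r, τ, hr, hpre, hcoef, -⟩ := exists_to_proj (𝒜 := CohB1.polyGrading m R) t ht
    MvPolynomial.adjoin_range_X q₀ hL s hs fun i c _ =>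
      ⟨MvPolynomial.eval₂Hom ((rres le_top).hom.comp q₀) c,
        RingHom.ext fun a => by simp [MvPolynomial.algebraMap_eq],
        fun l => MvPolynomial.eval₂Hom_X' _ _ l⟩
  have hr' : r ≫ str (CohB1.polyGrading m R) =
      (W : Scheme.{u}).toSpecΓ ≫ Spec.map (π.app U ≫ W.topIso.inv) := hr
  -- coordinates
  have hDW : ∀ k, D π q e k ≤ j.opensRange := fun k => by
    rw [Scheme.Opens.opensRange_ι]; exact D_le π q e k
  have hpre' : ∀ k, r ⁻¹ᵁ Proj.basicOpen (CohB1.polyGrading m R) (t k) = j ⁻¹ᵁ D π q e k :=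
    fun k => (hpre k).trans (hloc k)
  have hratio : ∀ k l, r.app _ (ratio (ht k) (ht l)) =
      j.appLE (D π q e k) _ (hpre' k).le (coord π q e k l) := by
    intro k l
    have hg : IsGen L (r ⁻¹ᵁ Proj.basicOpen (CohB1.polyGrading m R) (t k)) (res L le_top (s k)) := by
      have := (isGen_locus (s k)).restrict (hpre k).le
      rwa [QCoh.res_res] at this
    refine hg.injective le_rfl ?_
    simp only [QCoh.res_res]
    rw [← hcoef k l]
    have := unitSec_coord π q e k (h := j) (hpre' k).le l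
    simp only [rs] at this
    simp only [s, QCoh.res_res]
    exact this
  have hC : ∀ k (a : R), r.app _ (Proj.awayToSection _ (t k)
      (fromZeroRingHom (CohB1.polyGrading m R) _ (algebraMap R (CohB1.polyGrading m R 0) a))) =
      j.appLE (D π q e k) _ (hpre' k).le (π.appLE U (D π q e k) (D_le π q e k) a) := by
    intro k a
    rw [← app_str _ (ht k) a]
    have h1 := congrArg (fun φ : (W : Scheme.{u}) ⟶ Spec (CommRingCat.of R) =>
      (Scheme.ΓSpecIso (CommRingCat.of R)).inv ≫ φ.appTop) hr'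
    simp only [Scheme.Hom.comp_appTop, ← Scheme.ΓSpecIso_inv_naturality_assoc,
      Scheme.toSpecΓ_appTop, Iso.inv_hom_id, Category.comp_id] at h1
    have h2 := congrArg (fun φ : CommRingCat.of R ⟶ Γ((W : Scheme.{u}), ⊤) =>
      rres (le_top : r ⁻¹ᵁ Proj.basicOpen (CohB1.polyGrading m R) (t k) ≤ ⊤) (φ a)) h1
    refine Eq.trans ?_ (h2.trans ?_)
    · rw [Scheme.Hom.app_eq_appLE]
      simp only [← ConcreteCategory.comp_apply]
      rw [Category.assoc, Category.assoc, Category.assoc, Scheme.Hom.appLE_comp_appLE]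
      simp only [Scheme.Hom.appTop, Scheme.Hom.app_eq_appLE, Scheme.Hom.appLE_map]
      simp [Scheme.Hom.appLE_comp_appLE]
    · simp only [← ConcreteCategory.comp_apply]
      rw [Category.assoc, Scheme.Hom.appLE_comp_appLE, topIso_inv_eq _ htop,
        Scheme.Hom.app_eq_appLE, Scheme.Hom.appLE_comp_appLE_assoc, Scheme.Hom.appLE_map]
  have hbij : ∀ k, Function.Bijective (r.app (Proj.basicOpen (CohB1.polyGrading m R) (t k))) := by
    intro k
    let J := j.appLE (D π q e k) _ (hpre' k).le
    have hJ : Function.Bijective J := by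
      haveI : IsIso J := by
        have := j.isIso_app (D π q e k) (hDW k)
        simp only [J, Scheme.Hom.appLE]
        have : IsIso (homOfLE (hpre' k).le) := ⟨homOfLE (hpre' k).ge, rfl, rfl⟩
        infer_instance
      exact ConcreteCategory.bijective_of_isIso J
    let g : MvPolynomial (Fin m) R →+* Γ(Proj (CohB1.polyGrading m R), Proj.basicOpen _ (t k)) :=
      MvPolynomial.eval₂Hom ((Proj.awayToSection _ (t k)).hom.comp
        ((fromZeroRingHom (CohB1.polyGrading m R) _).comp (algebraMap R (CohB1.polyGrading m R 0))))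
        fun l => ratio (ht k) (ht (k.succAbove l))
    have hgc : ∀ Q, r.app _ (g Q) = J (coordHom π q e k Q) := by
      intro Q
      refine RingHom.congr_fun (f := (r.app _).hom.comp g)
        (g := J.hom.comp (coordHom π q e k).hom) ?_ Q
      refine MvPolynomial.ringHom_ext (fun a => ?_) fun l => ?_
      · simp only [RingHom.comp_apply]
        rw [show g (MvPolynomial.C a) = _ from MvPolynomial.eval₂Hom_C _ _ a]
        refine (hC k a).trans ?_
        exact congrArg J (coordHom_C π q e k a).symm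
      · simp only [RingHom.comp_apply]
        rw [show g (MvPolynomial.X l) = _ from MvPolynomial.eval₂Hom_X' _ _ l]
        refine (hratio k _).trans ?_
        exact congrArg J (coordHom_X π q e k l).symm
    have hgs : Function.Surjective g := by
      intro z
      haveI : IsIso (Proj.awayToSection (CohB1.polyGrading m R) (t k)) :=
        inferInstanceAs (IsIso (Proj.basicOpenIsoAway _ (t k) (ht k) Nat.one_pos).hom)
      obtain ⟨y, rfl⟩ :=
        (ConcreteCategory.bijective_of_isIso (Proj.awayToSection (CohB1.polyGrading m R) (t k))).2 z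
      obtain ⟨Q, rfl⟩ := exists_eval_eq_away (𝒜 := CohB1.polyGrading m R) t ht
        MvPolynomial.adjoin_range_X k y
      refine ⟨MvPolynomial.eval₂Hom MvPolynomial.C (vec k) Q, ?_⟩
      refine RingHom.congr_fun (f := g.comp (MvPolynomial.eval₂Hom MvPolynomial.C (vec k)))
        (g := (Proj.awayToSection (CohB1.polyGrading m R) (t k)).hom.comp (MvPolynomial.eval₂Hom _ _))
        (MvPolynomial.ringHom_ext (fun a => ?_) fun l => ?_) Q
      · simp [g]
      · simp only [RingHom.comp_apply, MvPolynomial.eval₂Hom_X']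
        rw [awayToSection_mk_one (ht k) (ht l)]
        rcases Fin.eq_self_or_eq_succAbove k l with rfl | ⟨i, rfl⟩
        · rw [vec_self, map_one, ratio_self]
        · rw [vec_succAbove]
          exact MvPolynomial.eval₂Hom_X' _ _ i
    have hcomp : Function.Bijective (J ∘ coordHom π q e k) :=
      hJ.comp (coordHom_bijective π q e k hU hP he)
    rw [show (J ∘ coordHom π q e k : _ → _) = r.app _ ∘ g from funext fun Q => (hgc Q).symm] at hcomp
    refine ⟨fun a b hab => ?_, hcomp.2.of_comp⟩
    obtain ⟨A', rfl⟩ := hgs a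
    obtain ⟨B', rfl⟩ := hgs b
    exact congrArg g (hcomp.1 hab)
  haveI hiso : IsIso r := by
    refine (IsZariskiLocalAtTarget.iff_of_iSup_eq_top (P := MorphismProperty.isomorphisms Scheme.{u}) _
      (iSup_basicOpen_gen (𝒜 := CohB1.polyGrading m R) t ht MvPolynomial.adjoin_range_X)).mpr fun k => ?_
    show IsIso (r ∣_ _)
    have : IsAffine ((Proj.basicOpen (CohB1.polyGrading m R) (t k)).toScheme) :=
      Proj.isAffineOpen_basicOpen _ (t k) (ht k) Nat.one_pos
    have : IsAffine (r ⁻¹ᵁ Proj.basicOpen (CohB1.polyGrading m R) (t k)).toScheme := by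
      show IsAffineOpen _
      rw [hpre' k]
      exact (isAffineOpen_D π q e k hU hP he).preimage_of_isOpenImmersion j (hDW k)
    refine (HasAffineProperty.iff_of_isAffine (P := MorphismProperty.isomorphisms Scheme.{u})).mpr ⟨this, ?_⟩
    haveI := (ConcreteCategory.isIso_iff_bijective (r.app (Proj.basicOpen _ (t k)))).mpr (hbij k)
    have he : (Proj.basicOpen (CohB1.polyGrading m R) (t k)).ι ''ᵁ ⊤ = Proj.basicOpen _ (t k) := by simp
    rw [Scheme.Hom.appTop, morphismRestrict_app]
    have : ∀ {V}, V = Proj.basicOpen (CohB1.polyGrading m R) (t k) → IsIso (r.app V) := by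
      rintro V rfl; infer_instance
    haveI := this he
    infer_instance
  refine ⟨inv r ≫ j, inferInstance, ?_, ⟨?_⟩⟩
  · rw [Scheme.Hom.opensRange_comp_of_isIso]
    exact Scheme.Opens.opensRange_ι _
  · exact ((Scheme.Modules.pullbackComp (inv r) j).app O1).symm ≪≫
      (Scheme.Modules.pullback (inv r)).mapIso τ.symm ≪≫
      (Scheme.Modules.pullbackComp (inv r) r).app _ ≪≫
      (Scheme.Modules.pullbackCongr (IsIso.inv_hom_id r)).app _ ≪≫
      (Scheme.Modules.pullbackId _).app _

end

end Groth.Agent.PBundle71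

end
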